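import Mathlib
import Cfsg.Agent.H364.SpCyc
import Cfsg.Agent.H364.OrthP
import Cfsg.Agent.H420.LOrth
import Cfsg.Agent.H732.SelfCentO
import Cfsg.Agent.S0293

/-!
# The groups with the order and the element orders of `PΩ⁺(2n, q)`, `n ≥ 6` even: what is used (helper360)
-/

set_option autoImplicit false

namespace Cfsg.Agent.H360.Dp

open Module Cfsg Cfsg.Agent.H902 Cfsg.Agent.H364 Cfsg.Agent.H364.SpCyc
open Cfsg.Agent.H72.AdjOrth
open Cfsg.Agent.H420.QR (OddM eta_spec)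
open Cfsg.Agent.LieClassical.OmegaReindex Cfsg.Agent.H150

universe u v

theorem psp_nonadj {F : Type*} [Field F] [Fintype F] {n : ℕ} (hn : 3 ≤ n) {r s : ℕ}
    (hr : r.Prime) (hs : s.Prime) (hr2 : r ≠ 2) (hs2 : s ≠ 2) (hrs : r ≠ s) (hrF : ¬ r ∣ Fintype.card F)
    (hsF : ¬ s ∣ Fintype.card F) (h : n < eta (ee (Fintype.card F) r) + eta (ee (Fintype.card F) s))
    (ho : ¬ OddM (ee (Fintype.card F) r) (ee (Fintype.card F) s)) : ¬ ∃ g : PSp n F, orderOf g = r * s := by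
  rintro ⟨g, hg⟩
  obtain ⟨p, hp⟩ := CharP.exists F
  have hpp : Fact p.Prime := ⟨CharP.char_is_prime F p⟩
  have hpd : p ∣ Fintype.card F := by
    rw [← CharP.cast_eq_zero_iff F p]
    exact FiniteField.cast_card_eq_zero F
  have hrp : r ≠ p := fun e => hrF (e ▸ hpd)
  have hsp : s ≠ p := fun e => hsF (e ▸ hpd)
  have h3 : n = 2 → 3 ≤ Fintype.card F := fun _ => by omega
  have hrG : r ∣ Nat.card (PSp n F) := (Dvd.intro _ rfl).trans (hg ▸ orderOf_dvd_natCard g)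
  have hsG : s ∣ Nat.card (PSp n F) := (Dvd.intro_left _ rfl).trans (hg ▸ orderOf_dvd_natCard g)
  rcases le_total (eta (ee (Fintype.card F) r)) (eta (ee (Fintype.card F) s)) with hle | hle
  · refine (S2469.result (F := F) p n (by omega) h3 r s hr hs hr2 hs2 hrp hsp hrs hrG hsG _ _ _ _ rfl rfl (eta_spec _)
      (eta_spec _) hle).2 ⟨h, ?_⟩ ⟨g, hg⟩
    rintro ⟨t, ht, hl⟩
    exact ho ⟨t, ht, Or.inl hl⟩
  · have h' : n < eta (ee (Fintype.card F) s) + eta (ee (Fintype.card F) r) := by omega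
    refine (S2469.result (F := F) p n (by omega) h3 s r hs hr hs2 hr2 hsp hrp hrs.symm hsG hrG _ _ _ _ rfl rfl
      (eta_spec _) (eta_spec _) hle).2 ⟨h', ?_⟩ ⟨g, by rw [hg, mul_comm]⟩
    rintro ⟨t, ht, hl⟩
    exact ho ⟨t, ht, Or.inr hl⟩

/-- **Non-adjacency in `PΩ⁺(2n,q)`.** -/
theorem plus_nonadj {F : Type*} [Field F] [Fintype F] {n : ℕ} (hn : 3 ≤ n) {r s : ℕ}
    (hr : r.Prime) (hs : s.Prime) (hr2 : r ≠ 2) (hs2 : s ≠ 2) (hrs : r ≠ s) (hrF : ¬ r ∣ Fintype.card F)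
    (hsF : ¬ s ∣ Fintype.card F) (h : n < eta (ee (Fintype.card F) r) + eta (ee (Fintype.card F) s))
    (ho : ¬ OddM (ee (Fintype.card F) r) (ee (Fintype.card F) s)) :
    ¬ ∃ g : POmega F (quadFormPlus n F), orderOf g = r * s := by
  by_cases hq : Odd (Fintype.card F)
  · exact Cfsg.Agent.H420.QR.plus_nonadj hq hn hr hs hr2 hs2 hrs hrF hsF h ho
  rintro ⟨g, hg⟩
  have h2 : (2 : F) = 0 := by
    by_contra h2
    apply hq
    have h3 : ringChar F ≠ 2 := fun h3 => h2 (by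
      have h4 := (ringChar.spec F 2).2 (by rw [h3])
      exact_mod_cast h4)
    rw [Nat.odd_iff]
    exact FiniteField.odd_card_of_char_ne_two h3
  have key : ∀ Q : QuadraticForm F (Fin n ⊕ Fin n → F), (QuadraticMap.polarBilin Q).Nondegenerate →
      (∃ u : Fin n ⊕ Fin n → F, u ≠ 0 ∧ Q u = 0) → ∀ x : POmega F ⇑Q, ∃ y : PSp n F, orderOf y = orderOf x :=
    fun Q hQ hu x => Cfsg.Agent.H732.SelfCent.exists_psp_of_pomega h2 Q hQ (by simp; ring) (by omega) hu x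
  have key2 := key (quadPlus n F) quadPlus_nondegenerate (quadPlus_isotropic (by omega))
  rw [coe_quadPlus] at key2
  obtain ⟨y, hy⟩ := key2 g
  exact psp_nonadj hn hr hs hr2 hs2 hrs hrF hsF h ho ⟨y, hy.trans hg⟩

theorem oplus_real {F : Type v} [Field F] [Fintype F] {m p f : ℕ} (hp : p.Prime) (hf : 1 ≤ f)
    (hF : Fintype.card F = p ^ f) (hm : 4 ≤ m) :
    Art.Real (.D m) p f (Nat.card (POmega F (quadFormPlus m F))) := by
  refine ⟨hp, hf, hm, ?_⟩
  have h := Cfsg.Agent.S0293.result (F := F) hF m hm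
  change Nat.gcd 4 ((p ^ f) ^ m - 1) * _ = (p ^ f) ^ (m * (m - 1)) * (((p ^ f) ^ m - 1) * _)
  rw [← mul_assoc ((p ^ f) ^ (m * (m - 1)))]
  exact h

/-- what is used of a group with the order and the element orders of `PΩ⁺(2n, q)`, `q = p ^ f` -/
structure HyD (G : Type u) [Group G] (n p f : ℕ) : Prop where
  hn : 6 ≤ n
  hev : Even n
  hY : Art.Real (.D n) p f (Nat.card G)
  nadj : ∀ r s : ℕ, r.Prime → s.Prime → r ≠ 2 → s ≠ 2 → r ≠ s → ¬ r ∣ p ^ f → ¬ s ∣ p ^ f →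
    n < eta (ee (p ^ f) r) + eta (ee (p ^ f) s) → ¬ OddM (ee (p ^ f) r) (ee (p ^ f) s) → NoEdge G r s
  nadjp : ∀ r : ℕ, r.Prime → r ≠ 2 → r ≠ p → eta (ee (p ^ f) r) = n - 1 → NoEdge G r p
  cyc : ∀ r : ℕ, r.Prime → r ≠ 2 → ¬ r ∣ p ^ f → n / 2 < eta (ee (p ^ f) r) → eta (ee (p ^ f) r) < n →
    ∃ x : G, orderOf x = r ^ (Nat.card G).factorization r
  far : Far G

theorem eta_le_half {q r n : ℕ} (hq : 1 ≤ q) (hn : Even n) (hn1 : 1 ≤ n) (hd : r ∣ q ^ n - 1) :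
    eta (ee q r) ≤ n / 2 := by
  have h1 := ee_dvd hq hd
  rw [eta]
  split_ifs with h
  · exact Nat.div_le_div_right (Nat.le_of_dvd hn1 h1)
  · obtain ⟨m, hm⟩ := hn
    have h2 : Nat.Coprime (ee q r) 2 := Nat.coprime_two_right.2 (Nat.not_even_iff_odd.1 h)
    have h3 : ee q r ∣ m := h2.dvd_of_dvd_mul_left (by rw [two_mul, ← hm]; exact h1)
    have := Nat.le_of_dvd (by omega) h3
    omega

/-- the `r`-part of the order divides the order of a torus -/
theorem P_dvd {n p f M r : ℕ} (hY : Art.Real (.D n) p f M) (hn : 4 ≤ n) (hev : Even n) (hr : r.Prime) (hr2 : r ≠ 2)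
    (hrq : ¬ r ∣ p ^ f) (h1 : n / 2 < eta (ee (p ^ f) r)) (h2 : eta (ee (p ^ f) r) < n) :
    Art.P r M ∣ tn (p ^ f) (ee (p ^ f) r) := by
  have hq := hY.q_ge
  have hrp : r ≠ p := by
    rintro rfl
    exact hrq (dvd_pow_self r (by have := hY.hf; omega))
  have h3 := hY.P_other hr hrp
  have h4 : Art.num (.D n) (p ^ f) = ((p ^ f) ^ n - 1) * SpVal.AA (n - 1) (p ^ f) := rfl
  have h5 : ¬ r ∣ (p ^ f) ^ n - 1 := fun hd => by
    have := eta_le_half (by omega) hev (by omega) hd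
    omega
  have h6 : (p ^ f) ^ n - 1 ≠ 0 := by
    have : (p ^ f) ^ 1 ≤ (p ^ f) ^ n := Nat.pow_le_pow_right (by omega) (by omega)
    rw [pow_one] at this
    omega
  rw [h4, Art.P_mul h6 (SpVal.AA_ne hq), Art.P_eq_one h5, one_mul] at h3
  refine (Dvd.intro_left _ h3).trans (P_dvd_tn hr hr2 hq hrq (by omega) (by omega))

variable {F : Type v} [Field F] [Fintype F]

/-- **The hypotheses hold** for a group with the order and the element orders of `PΩ⁺(2n, q)`. -/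
theorem HyD.of {G : Type u} [Group G] {n p f : ℕ} (hp : p.Prime) (hf : 1 ≤ f) (hF : Fintype.card F = p ^ f)
    (hn : 6 ≤ n) (hev : Even n) (hspec : ∀ x : G, ∃ y : POmega F (quadFormPlus n F), orderOf y = orderOf x)
    (hspec' : ∀ y : POmega F (quadFormPlus n F), ∃ x : G, orderOf x = orderOf y)
    (hcard : Nat.card G = Nat.card (POmega F (quadFormPlus n F))) (hfar : Far (POmega F (quadFormPlus n F))) :
    HyD G n p f := by
  have hpF : Fact p.Prime := ⟨hp⟩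
  have hchar : CharP F p := by
    obtain ⟨ℓ, hchar⟩ := CharP.exists F
    have hl : Fact ℓ.Prime := ⟨CharP.char_is_prime F ℓ⟩
    obtain ⟨m, hm, hcard⟩ := FiniteField.card F ℓ
    rw [hF] at hcard
    have h1 : ℓ ∣ p ^ f := by rw [hcard]; exact dvd_pow_self ℓ m.ne_zero
    have h3 : ℓ = p := (Nat.prime_dvd_prime_iff_eq hm hp).1 (hm.dvd_of_dvd_pow h1)
    subst h3
    exact hchar
  have hY : Art.Real (.D n) p f (Nat.card G) := by rw [hcard]; exact oplus_real hp hf hF (by omega)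
  refine ⟨hn, hev, hY, ?_, ?_, ?_, ?_⟩
  · intro r s hr hs hr2 hs2 hrs hrq hsq h ho x hx
    obtain ⟨y, hy⟩ := hspec x
    rw [← hF] at hrq hsq h ho
    exact plus_nonadj (by omega) hr hs hr2 hs2 hrs hrq hsq h ho ⟨y, hy.trans hx⟩
  · intro r hr hr2 hrp h x hx
    obtain ⟨y, hy⟩ := hspec x
    have key : ∀ Q : QuadraticForm F (Fin n ⊕ Fin n → F), (QuadraticMap.polarBilin Q).Nondegenerate →
        (∃ u : Fin n ⊕ Fin n → F, u ≠ 0 ∧ Q u = 0) → NoEdge (POmega F ⇑Q) r p := fun Q hQ hu =>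
      OrthUnip.pomega_noEdge p Q hQ (n := n) (by omega) (by simp; ring) hu hr hrp hr2
        (k := ee (p ^ f) r) (by rw [Nat.card_eq_fintype_card, hF]; rfl) (eta_spec _) (Or.inr h)
    have h2 := key (quadPlus n F) quadPlus_nondegenerate (quadPlus_sing (by omega))
    rw [coe_quadPlus] at h2
    exact h2 y (hy.trans hx)
  · intro r hr hr2 hrq h1 h2
    have h3 := P_dvd hY (by omega) hev hr hr2 hrq h1 h2
    have hrpos := ee_pos hr hrq
    rw [← hF, ← Nat.card_eq_fintype_card] at h3 hrpos h2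
    have h4 := elt_extend (elt_tn hrpos h3) (sg_pm _) (Or.inl rfl : (1 : ℤ) = 1 ∨ (1 : ℤ) = -1) (m := n) (by omega)
    obtain ⟨y, hy⟩ := (Cfsg.Agent.H377.Elt.two (by omega)
      ((hr.odd_of_ne_two hr2).pow : Odd (Art.P r (Nat.card G))) h4).plus (by omega)
    obtain ⟨x, hx⟩ := hspec' y
    exact ⟨x, hx.trans hy⟩
  · obtain ⟨r, hr, hr2, hd, h⟩ := hfar
    refine ⟨r, hr, hr2, by rwa [hcard], fun x hx => ?_⟩
    obtain ⟨y, hy⟩ := hspec x
    exact h y (hy.trans hx)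

end Cfsg.Agent.H360.Dp
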